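import Groth.Agent.Misc3.KummerField
import Groth.Agent.KummerLib.MuConst
import Groth.Agent.UfdExtend.Trivial
import Groth.Agent.S0233
import Groth.Agent.S0108

/-!
# Degree one Kummer theory when the Picard group is trivial
-/

set_option autoImplicit false
set_option backward.isDefEq.respectTransparency false
set_option backward.isDefEq.respectTransparency.types false
set_option linter.style.haveILetI false
set_option maxHeartbeats 1000000
set_option synthInstance.maxHeartbeats 400000

universe u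

open CategoryTheory CategoryTheory.Limits CategoryTheory.Abelian AlgebraicGeometry Opposite

noncomputable section

namespace Groth.Agent.EtGmKummer

/-- Every invertible module on the spectrum of a factorial ring is trivial. -/
theorem nonempty_iso_of_ufd (R : Type u) [CommRing R] [IsDomain R] [UniqueFactorizationMonoid R]
    (L : (Spec (CommRingCat.of R)).Modules) (hL : PicF.IsInvertible L) :
    Nonempty (L ≅ Coh.structureModule (Spec (CommRingCat.of R))) := by
  haveI : UniqueFactorizationMonoid Γ(Spec (CommRingCat.of R), ⊤) :=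
    MulEquiv.uniqueFactorizationMonoid
      (Scheme.ΓSpecIso (CommRingCat.of R)).symm.commRingCatIsoToRingEquiv.toMulEquiv ‹_›
  obtain ⟨u₀⟩ : Nonempty (Spec (CommRingCat.of R)) := inferInstanceAs (Nonempty (PrimeSpectrum R))
  haveI : Nonempty (⊤ : (Spec (CommRingCat.of R)).Opens).toScheme := ⟨⟨u₀, trivial⟩⟩
  haveI : IsIntegral (⊤ : (Spec (CommRingCat.of R)).Opens).toScheme :=
    isIntegral_of_isOpenImmersion (⊤ : (Spec (CommRingCat.of R)).Opens).ι
  have hF : UfdExtend.RankOne ⊤ L := ⟨fun V => by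
    have h : ∀ W : (Spec (CommRingCat.of R)).Opens, W = V → ∀ hW : W ≤ V, Function.Bijective (QC.res L hW) := by
      rintro W rfl hW
      rw [show ⇑(QC.res L hW) = id from funext fun x => QC.res_self _ _ x]
      exact Function.bijective_id
    exact h _ (inf_top_eq V) _,
    fun x _ => by
      obtain ⟨A, a, hxA, ha⟩ := TMul.exists_isGen hL x
      exact ⟨A, a, hxA, ha⟩⟩
  obtain ⟨e, he⟩ := UfdExtend.exists_gen_of_ufd hF (isAffineOpen_top _)
    (UfdExtend.intOpen_of_isIntegral ⊤) le_top (u₀ := u₀) trivial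
  exact EtPicLib.nonempty_iso_of_gen he

theorem subsingleton_H1_Gm_ufd (R : Type u) [CommRing R] [IsDomain R] [UniqueFactorizationMonoid R] :
    Subsingleton (EtCoh.H (Spec (CommRingCat.of R)) (EtCoh.Gm (Spec (CommRingCat.of R))) 1) :=
  EtPicLib.subsingleton_H_iff.mpr (nonempty_iso_of_ufd R)

variable (X : Scheme.{u}) {n : ℕ}

theorem unitMor_mul (a b : (Γ(X, ⊤) : Type u)ˣ) :
    GalSym.unitMor X (a * b) = GalSym.unitMor X a + GalSym.unitMor X b := by
  have h : GalSym.unitHom X (a * b) = GalSym.unitHom X a + GalSym.unitHom X b := by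
    apply AddCommGrpCat.hom_ext
    refine AddMonoidHom.ext fun m => ?_
    show (GalSym.unitHom X (a * b)) m = (GalSym.unitHom X a) m + (GalSym.unitHom X b) m
    rw [GalSym.unitHom_apply, GalSym.unitHom_apply, GalSym.unitHom_apply, ← zsmul_add]
    rfl
  simp only [GalSym.unitMor, h]
  exact map_add ((EtCore.constAdj X).homAddEquiv _ _).symm _ _

variable {X} (hm : Epi (EtCoh.powMap X n))

/-- The Kummer class as a homomorphism. -/
def kum : Additive (Γ(X, ⊤) : Type u)ˣ →+ EtCoh.H X (EtCoh.mu X n) 1 :=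
  AddMonoidHom.mk' (fun a => GalSym.kumClass hm a.toMul) fun a b => by
    show GalSym.kumClass hm (a.toMul * b.toMul) = _
    simp only [GalSym.kumClass, GalSym.unitClass, unitMor_mul, Ext.mk₀_add, map_add]

theorem kum_surjective (hPic : Subsingleton (EtCoh.H X (EtCoh.Gm X) 1)) : Function.Surjective (kum hm) := by
  intro x
  have hS := EtSix.kummerShortExact (X := X) hm
  haveI : Subsingleton (Ext (EtCoh.const X ℤ) (EtSix.kummerSC X n).X₂ 1) := hPic
  obtain ⟨y, hy⟩ := Ext.covariant_sequence_exact₁ (EtCoh.const X ℤ) hS x (Subsingleton.elim _ _) (zero_add 1)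
  obtain ⟨φ, rfl⟩ : ∃ φ : EtCoh.const X ℤ ⟶ EtCoh.Gm X, Ext.mk₀ φ = y := (Ext.mk₀_bijective _ _).2 y
  let s : (EtCore.gsec X).obj (EtCoh.Gm X) := (EtCore.constAdj X).homEquiv _ _ φ (ULift.up 1)
  let a : (Γ(X, ⊤) : Type u)ˣ := ((s : ULift.{u + 1} (Additive ((Γ(X, ⊤) : Type u)ˣ))).down).toMul
  have ha : GalSym.unitSection X a = s := rfl
  refine ⟨Additive.ofMul a, ?_⟩
  show GalSym.kumClass hm a = x
  have hφ : GalSym.unitMor X a = φ := by
    rw [GalSym.unitMor, Equiv.symm_apply_eq]
    ext ⟨m⟩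
    show m • GalSym.unitSection X a = (EtCore.constAdj X).homEquiv _ _ φ (ULift.up m)
    rw [ha]
    have : (ULift.up m : ULift.{u + 1} ℤ) = m • ULift.up 1 := by ext; simp
    rw [this, map_zsmul]
  rw [GalSym.kumClass, GalSym.unitClass, hφ]
  exact hy

theorem exists_pow_of_kum_eq_zero (a : (Γ(X, ⊤) : Type u)ˣ) (h : GalSym.kumClass hm a = 0) :
    ∃ b : (Γ(X, ⊤) : Type u)ˣ, b ^ n = a := by
  have hS := EtSix.kummerShortExact (X := X) hm
  obtain ⟨y, hy⟩ := Ext.covariant_sequence_exact₃ (EtCoh.const X ℤ) hS (GalSym.unitClass X a)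
    (rfl : 0 + 1 = 1) h
  obtain ⟨ψ, rfl⟩ := (Ext.mk₀_bijective _ _).2 y
  have hy' : ψ ≫ EtCoh.powMap X n = GalSym.unitMor X a :=
    (Ext.mk₀_bijective _ _).1 ((Ext.mk₀_comp_mk₀ _ _).symm.trans hy)
  let s := (EtCore.constAdj X).homEquiv _ _ ψ (ULift.up 1)
  have h1 : GalSym.unitHom X a (ULift.up 1) = (EtCore.gsec X).map (EtCoh.powMap X n) s := by
    have h2 : (EtCore.constAdj X).homEquiv _ _ (ψ ≫ EtCoh.powMap X n) = GalSym.unitHom X a := by
      rw [hy', GalSym.unitMor, Equiv.apply_symm_apply]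
    rw [← h2, Adjunction.homEquiv_naturality_right]
    rfl
  have h3 : GalSym.unitSection X a = n • s := by
    rw [GalSym.unitHom_apply, one_zsmul] at h1
    exact h1.trans (KummerLib.powMap_app n (EtCoh.top X) s)
  exact ⟨((show ULift.{u + 1} (Additive ((Γ(X, ⊤) : Type u)ˣ)) from s).down).toMul,
    (congrArg (fun t : ULift.{u + 1} (Additive ((Γ(X, ⊤) : Type u)ˣ)) => t.down.toMul) h3).symm⟩

theorem kum_nsmul (a : Additive (Γ(X, ⊤) : Type u)ˣ) : kum hm (n • a) = 0 := by
  show GalSym.kumClass hm (a.toMul ^ n) = 0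
  rw [GalSym.kumClass, EtSix.kummerBoundary]
  have hS := EtSix.kummerShortExact (X := X) hm
  have e : GalSym.unitClass X (a.toMul ^ n) =
      (GalSym.unitClass X a.toMul).comp (Ext.mk₀ (EtCoh.powMap X n)) (add_zero 0) := by
    rw [GalSym.unitClass, GalSym.unitClass, Ext.mk₀_comp_mk₀]
    congr 1
    have hk : ∀ k : ℕ, GalSym.unitMor X (a.toMul ^ k) = k • GalSym.unitMor X a.toMul := by
      intro k
      induction k with
      | zero =>
        rw [pow_zero, zero_smul]
        have h := unitMor_mul X 1 1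
        rw [mul_one] at h
        exact left_eq_add.1 h
      | succ k ih => rw [pow_succ, succ_nsmul, unitMor_mul, ih]
    rw [hk, show EtCoh.powMap X n = n • 𝟙 (EtCoh.Gm X) from rfl, Preadditive.comp_nsmul, Category.comp_id]
  rw [e]
  show Ext.comp _ hS.extClass rfl = 0
  rw [Ext.comp_assoc _ _ _ (add_zero 0) (zero_add 1) (by omega)]
  erw [hS.comp_extClass]
  simp only [Ext.comp_zero]

end Groth.Agent.EtGmKummer
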